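import Groth.Agent.GorDualExtLib.Single
import Groth.Agent.RigidLib.Rigid
import Groth.Agent.FMTransLib.PullPhi

/-!
# Base change of the relative dualizing module
-/

set_option autoImplicit false
set_option linter.style.haveILetI false
set_option linter.unusedSectionVars false
set_option backward.isDefEq.respectTransparency false
set_option backward.isDefEq.respectTransparency.types false
set_option maxHeartbeats 1000000
set_option synthInstance.maxHeartbeats 200000

noncomputable section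

universe u

open CategoryTheory CategoryTheory.Limits AlgebraicGeometry
open Groth.Agent Groth.Agent.DualFMLib

attribute [local instance] HasDerivedCategory.standard

namespace GorDualExtLib

/-- A module is recovered from its shift. -/
theorem nonempty_iso_of_shift {X : Scheme.{u}} {L L' : X.Modules} (n : ℤ)
    (e : (DCoh.inD X L)⟦n⟧ ≅ (DCoh.inD X L')⟦n⟧) : Nonempty (L ≅ L') :=
  ⟨(hdInD L).symm ≪≫ eqToIso (by rw [add_neg_cancel n]) ≪≫ (hdShiftIso L n (-n)).symm ≪≫
    (DerivedCategory.homologyFunctor X.Modules (-n)).mapIso e ≪≫ hdShiftIso L' n (-n) ≪≫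
    eqToIso (by rw [add_neg_cancel n]) ≪≫ hdInD L'⟩

/-- The relative dualizing module commutes with arbitrary base change. -/
theorem nonempty_pullback_iso {X T X' T' : Scheme.{u}} [IsNoetherian T] [IsNoetherian T']
    {f : X ⟶ T} {g : T' ⟶ T} {f' : X' ⟶ T'} {g' : X' ⟶ X} (hsq : IsPullback g' f' f g)
    [IsProper f] [Flat f] [DCoh.HasRpush f] [DCoh.HasRpush f']
    (hf : DCoh.RpushPreservesQCoh f) (hf' : DCoh.RpushPreservesQCoh f')
    {a : DCoh.DQCoh T ⥤ DCoh.DQCoh X} {a' : DCoh.DQCoh T' ⥤ DCoh.DQCoh X'}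
    (adj : DCoh.RpushQ f hf ⊣ a) (adj' : DCoh.RpushQ f' hf' ⊣ a')
    (O : DCoh.DQCoh T) (hO : Nonempty (O.obj ≅ DCoh.inD T (Coh.structureModule T)))
    (O' : DCoh.DQCoh T') (hO' : Nonempty (O'.obj ≅ DCoh.inD T' (Coh.structureModule T')))
    (n : ℤ) {L : X.Modules} (hL : PicF.IsInvertible L) {L' : X'.Modules}
    (e : (a.obj O).obj ≅ (DCoh.inD X L)⟦n⟧) (e' : (a'.obj O').obj ≅ (DCoh.inD X' L')⟦n⟧) :
    Nonempty ((Scheme.Modules.pullback g').obj L ≅ L') := by
  haveI : IsProper f' := MorphismProperty.of_isPullback (P := @IsProper) hsq inferInstance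
  haveI : IsLocallyNoetherian X := LocallyOfFiniteType.isLocallyNoetherian f
  haveI : IsLocallyNoetherian X' := LocallyOfFiniteType.isLocallyNoetherian f'
  haveI : CompactSpace X := QuasiCompact.compactSpace_of_compactSpace f
  haveI : CompactSpace X' := QuasiCompact.compactSpace_of_compactSpace f'
  haveI : QuasiCompact g := quasiCompact_of_compactSpace _
  haveI : QuasiCompact g' := quasiCompact_of_compactSpace _
  haveI := KFlatLib.hasLpull g
  haveI := KFlatLib.hasLpull g'
  haveI := DCohRestrLib.hasRpush g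
  haveI := DCohRestrLib.hasRpush g'
  have hg : DCoh.RpushPreservesQCoh g := fun E hE => QRlimLib.isQCohD_rpush _ hE
  have hg' : DCoh.RpushPreservesQCoh g' := fun E hE => QRlimLib.isQCohD_rpush _ hE
  have hLg : Dual3.LpullPreservesQCoh g := KFlatLib.isQCohD_lpull g
  have hLg' : Dual3.LpullPreservesQCoh g' := KFlatLib.isQCohD_lpull g'
  let Ag := DualFMLib.adjQ (g := g) hLg hg
  let Ag' := DualFMLib.adjQ (g := g') hLg' hg'
  haveI hξ : ∀ M, IsIso (Dual3.xi adj adj' (sqQ hsq.w hf hf' hg hg') M) := fun M =>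
    BCArbLib.isIso_xi_sqQ_flatMap Ag Ag' hsq adj adj' M
  haveI := BCArbLib.isIso_bcMap hsq adj adj' Ag Ag' O (hξ _)
  obtain ⟨eO⟩ := hO
  obtain ⟨eO'⟩ := hO'
  let t : (Dual3.LpullQ g hLg).obj O ≅ O' := ObjectProperty.isoMk _
    ((DCoh.Lpull g).mapIso (eO ≪≫ DualFMLib.inDUnit T) ≪≫ KiehlLib.lpullUnitIso g ≪≫
      (DualFMLib.inDUnit T').symm ≪≫ eO'.symm)
  let eK : (DCoh.Lpull g').obj (a.obj O).obj ≅ (a'.obj O').obj :=
    (ObjectProperty.ι _).mapIso
      (asIso (Dual3.bcMap adj adj' (sqQ hsq.w hf hf' hg hg') Ag Ag' O (hξ _)) ≪≫ a'.mapIso t)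
  obtain ⟨_, _⟩ := DualFMLib.exists_isTriangulated_lpull g'
  obtain ⟨p⟩ := FMTransLib.nonempty_lpull_inD g' hL
  exact nonempty_iso_of_shift n
    ((CategoryTheory.shiftFunctor _ n).mapIso p.symm ≪≫ (((DCoh.Lpull g').commShiftIso n).app _).symm ≪≫
      (DCoh.Lpull g').mapIso e.symm ≪≫ eK ≪≫ e')

end GorDualExtLib
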