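import Groth.Prelude.Def_Dual3
import Groth.Agent.GorLib.Socle

/-!
# Fibres over a one-point base with a rational closed immersion
-/

set_option autoImplicit false
set_option linter.style.haveILetI false
set_option backward.isDefEq.respectTransparency false
set_option backward.isDefEq.respectTransparency.types false

noncomputable section

universe u

open CategoryTheory CategoryTheory.Limits AlgebraicGeometry

namespace GorDualExtLib

variable {X₀ X S : Scheme.{u}} {K : Type u} [Field K] {s : Spec (CommRingCat.of K) ⟶ S}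
  [IsClosedImmersion s] {f : X ⟶ S} {h : X₀ ⟶ X} {f₀ : X₀ ⟶ Spec (CommRingCat.of K)}

/-- The fibre over the image of a closed rational point. -/
theorem nonempty_fiber_iso (hsq : IsPullback h f₀ f s) :
    Nonempty (f.fiber (s (IsLocalRing.closedPoint K)) ≅ X₀) := by
  let φ := S.descResidueField (Scheme.stalkClosedPointTo s)
  have hφ : Function.Surjective φ.hom := fun b => by
    obtain ⟨c, hc⟩ := (((ConcreteCategory.bijective_of_isIso
      (stalkClosedPointIso (CommRingCat.of K)).hom).2.comp (s.stalkMap_surjective (IsLocalRing.closedPoint K))) b)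
    refine ⟨S.residue _ c, ?_⟩
    rw [← CommRingCat.comp_apply, Scheme.residue_descResidueField]
    exact hc
  haveI : IsIso φ :=
    (RingEquiv.ofBijective φ.hom ⟨φ.hom.injective, hφ⟩).toCommRingCatIso.isIso_hom
  have hs : Spec.map φ ≫ S.fromSpecResidueField _ = s :=
    Scheme.descResidueField_stalkClosedPointTo_fromSpecResidueField K S s
  haveI : IsIso (Spec.map φ) := inferInstance
  exact ⟨(@asIso _ _ _ _ (pullback.map f s f (S.fromSpecResidueField (s (IsLocalRing.closedPoint K))) (𝟙 X)
    (Spec.map φ) (𝟙 S) (by simp) (by simp [hs])) (pullback.map_isIso _ _ _ _ _ _ _ _ _)).symm ≪≫ hsq.isoPullback.symm⟩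

variable [Subsingleton S]

/-- A flat family over one point with a Gorenstein special fibre is a Gorenstein morphism. -/
theorem isGorensteinMor_of_special [Flat f] (hsq : IsPullback h f₀ f s) (hG : Dual3.IsGorenstein X₀) :
    Dual3.IsGorensteinMor f := fun x => by
  refine ⟨Flat.stalkMap f x, ?_⟩
  have key : ∀ y : S, y = s (IsLocalRing.closedPoint K) → ∀ p : f.fiber y,
      LocCoh.IsGorensteinLocalRing ((f.fiber y).presheaf.stalk p) := by
    rintro _ rfl p
    obtain ⟨e⟩ := nonempty_fiber_iso hsq
    exact GorLib.gorenstein_of_ringEquiv (asIso (e.hom.stalkMap p)).commRingCatIsoToRingEquiv.symm (hG.2 (e.hom p))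
  exact key _ (Subsingleton.elim _ _) _

/-- The fibres of a family over one point have the components of the special fibre. -/
theorem dim_fiber_of_special (hsq : IsPullback h f₀ f s) (n : ℕ)
    (hd : ∀ Z ∈ irreducibleComponents ↥X₀, topologicalKrullDim ↥Z = (n : WithBot ℕ∞)) :
    ∀ (y : S) (Z : Set ↥(f.fiber y)), Z ∈ irreducibleComponents ↥(f.fiber y) →
      topologicalKrullDim ↥Z = (n : WithBot ℕ∞) := by
  intro y
  obtain rfl : y = s (IsLocalRing.closedPoint K) := Subsingleton.elim _ _
  intro Z hZ
  obtain ⟨e⟩ := nonempty_fiber_iso hsq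
  obtain ⟨z, hz⟩ := hZ.1.1
  have h1 : e.hom.homeomorph.symm ⁻¹' Z ∈ irreducibleComponents ↥X₀ :=
    preimage_mem_irreducibleComponents hZ e.hom.homeomorph.symm.isOpenEmbedding
      ⟨z, hz, e.hom.homeomorph z, e.hom.homeomorph.symm_apply_apply z⟩
  rw [← Homeomorph.image_eq_preimage_symm] at h1
  rw [IsHomeomorph.topologicalKrullDim_eq _ (e.hom.homeomorph.image Z).isHomeomorph]
  exact hd _ h1

end GorDualExtLib
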