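import Groth.Prelude.Def_FSch2
import Mathlib.RingTheory.PowerSeries.Inverse

/-!
# The levels of `Spf k[[t]]`
-/

set_option autoImplicit false
set_option backward.isDefEq.respectTransparency false
set_option backward.isDefEq.respectTransparency.types false

noncomputable section

universe u

open CategoryTheory AlgebraicGeometry

namespace GorDualExtLib

variable (k : Type u) [Field k]

local notation "𝔪" => (Ideal.span {PowerSeries.X (R := k)} : Ideal (PowerSeries k))

theorem isNoetherian_spec : IsNoetherian (Spec (CommRingCat.of k)) :=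
  haveI : IsNoetherianRing (CommRingCat.of k) := inferInstanceAs (IsNoetherianRing k)
  inferInstance

theorem subsingleton_spec : Subsingleton (Spec (CommRingCat.of k)) :=
  inferInstanceAs (Subsingleton (PrimeSpectrum k))

theorem isNoetherian_spf (m : ℕ) : IsNoetherian ((FSch.spf (PowerSeries k) 𝔪).X m) :=
  haveI : IsNoetherianRing (CommRingCat.of (PowerSeries k ⧸ 𝔪 ^ (m + 1))) :=
    inferInstanceAs (IsNoetherianRing (PowerSeries k ⧸ 𝔪 ^ (m + 1)))
  inferInstanceAs (IsNoetherian (Spec (CommRingCat.of (PowerSeries k ⧸ 𝔪 ^ (m + 1)))))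

theorem subsingleton_spf (m : ℕ) : Subsingleton ((FSch.spf (PowerSeries k) 𝔪).X m) := by
  refine ⟨fun p q => ?_⟩
  have key : ∀ r : PrimeSpectrum (PowerSeries k ⧸ 𝔪 ^ (m + 1)),
      r.asIdeal.comap (Ideal.Quotient.mk (𝔪 ^ (m + 1))) = IsLocalRing.maximalIdeal (PowerSeries k) := fun r => by
    refine ((IsLocalRing.maximalIdeal.isMaximal _).eq_of_le (Ideal.IsPrime.comap _).ne_top ?_).symm
    rw [PowerSeries.maximalIdeal_eq_span_X, Ideal.span_singleton_le_iff_mem, Ideal.mem_comap]
    refine r.isPrime.mem_of_pow_mem (m + 1) ?_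
    rw [← map_pow, Ideal.Quotient.eq_zero_iff_mem.2
      (Ideal.pow_mem_pow (Ideal.mem_span_singleton_self _) (m + 1))]
    exact zero_mem _
  exact PrimeSpectrum.ext (Ideal.comap_injective_of_surjective _ Ideal.Quotient.mk_surjective
    ((key p).trans (key q).symm))

/-- The base of the system is `Spec k`. -/
theorem isIso_level : IsIso (Spec.map (CommRingCat.ofHom
    ((Ideal.Quotient.mk (𝔪 ^ (0 + 1))).comp (algebraMap k (PowerSeries k))))) := by
  haveI : Nontrivial (PowerSeries k ⧸ 𝔪 ^ (0 + 1)) := by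
    rw [Ideal.Quotient.nontrivial_iff, pow_one, ← PowerSeries.maximalIdeal_eq_span_X]
    exact (IsLocalRing.maximalIdeal.isMaximal _).ne_top
  let φ := (Ideal.Quotient.mk (𝔪 ^ (0 + 1))).comp (algebraMap k (PowerSeries k))
  have hφ : Function.Surjective φ := fun b => by
    obtain ⟨g, rfl⟩ := Ideal.Quotient.mk_surjective b
    refine ⟨PowerSeries.constantCoeff g, Ideal.Quotient.eq.2 ?_⟩
    rw [pow_one, Ideal.mem_span_singleton, PowerSeries.X_dvd_iff]
    simp [PowerSeries.algebraMap_apply]
  haveI : IsIso (CommRingCat.ofHom φ) :=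
    (RingEquiv.ofBijective φ ⟨φ.injective, hφ⟩).toCommRingCatIso.isIso_hom
  exact inferInstanceAs (IsIso (Spec.map (CommRingCat.ofHom φ)))

theorem isClosedImmersion_toX (m : ℕ) :
    IsClosedImmersion ((FSch.spf (PowerSeries k) 𝔪).toX m) := by
  induction m with
  | zero => exact inferInstanceAs (IsClosedImmersion (𝟙 _))
  | succ m ih =>
    haveI := ih
    haveI : IsClosedImmersion ((FSch.spf (PowerSeries k) 𝔪).ι m) :=
      IsClosedImmersion.spec_of_surjective _
        (Ideal.Quotient.factor_surjective (Ideal.pow_le_pow_right (Nat.le_succ (m + 1))))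
    exact inferInstanceAs (IsClosedImmersion (_ ≫ _))

/-- The composite squares of an adic morphism. -/
theorem isPullback_toX {𝔛 𝔜 : FSch.Sys.{u}} (f : 𝔛 ⟶ 𝔜) (hf : FSch.IsAdicHom f) :
    ∀ m, IsPullback (𝔛.toX m) (FSch.Hom.app f 0) (FSch.Hom.app f m) (𝔜.toX m)
  | 0 => IsPullback.id_horiz _
  | m + 1 => (isPullback_toX f hf m).paste_horiz (hf m)

end GorDualExtLib
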