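import Groth.Agent.ShriekAffLib.InvChart
import Groth.Agent.S3614
import Groth.Agent.S3616
import Groth.Agent.S0341
import Groth.Agent.MiscFlat6.RelTwist
import Groth.Agent.DerLib.Devissage
import Groth.Agent.BCArbLib.Main

/-!
# The dualizing module of a proper flat map with Gorenstein fibres
-/

set_option autoImplicit false
set_option linter.style.haveILetI false
set_option linter.unusedSectionVars false
set_option backward.isDefEq.respectTransparency false
set_option backward.isDefEq.respectTransparency.types false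
set_option maxHeartbeats 1000000
set_option synthInstance.maxHeartbeats 200000

noncomputable section

universe u

open CategoryTheory CategoryTheory.Limits AlgebraicGeometry
open Groth.Agent

attribute [local instance] HasDerivedCategory.standard

namespace GorDualExtLib

variable {X : Scheme.{u}}

/-- Cohomology of a shifted module in degree zero. -/
def hdShiftIso (M : X.Modules) (m i : ℤ) :
    DCoh.HD ((DCoh.inD X M)⟦m⟧) i ≅ DCoh.HD (DCoh.inD X M) (m + i) :=
  ((DerivedCategory.homologyFunctor X.Modules 0).shiftIso m i (m + i) rfl).app _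

/-- The degree zero cohomology of a module. -/
def hdInD (M : X.Modules) : DCoh.HD (DCoh.inD X M) 0 ≅ M :=
  (DerivedCategory.singleFunctorCompHomologyFunctorIso X.Modules 0).app M

theorem isZero_hd_inD (M : X.Modules) (i : ℤ) (hi : i ≠ 0) : IsZero (DCoh.HD (DCoh.inD X M) i) := by
  rcases lt_or_gt_of_ne hi with h | h
  · exact DerivedCategory.isZero_of_isGE (DCoh.inD X M) 0 i h
  · exact DerivedCategory.isZero_of_isLE (DCoh.inD X M) 0 i h

/-- The structure module has nonzero stalks. -/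
theorem not_subsingleton_stalk (p : X) : ¬ Subsingleton ((Coh.structureModule X).presheaf.stalk p) := fun h => by
  haveI := h
  have h0 : (Coh.structureModule X).presheaf.germ ⊤ p trivial (1 : Γ(X, ⊤)) =
      (Coh.structureModule X).presheaf.germ ⊤ p trivial (0 : Γ(X, ⊤)) := Subsingleton.elim _ _
  obtain ⟨W, hW, i₁, i₂, hab⟩ := (Coh.structureModule X).presheaf.germ_eq (U := ⊤) (V := ⊤) p (show p ∈ (⊤ : X.Opens) from trivial) (show p ∈ (⊤ : X.Opens) from trivial) _ _ h0
  have h1 : (1 : Γ(X, W)) = 0 := by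
    rw [← map_one (X.presheaf.map i₁.op).hom, ← map_zero (X.presheaf.map i₂.op).hom]
    exact hab
  exact one_ne_zero (α := X.presheaf.stalk p) (by
    rw [← map_one (X.presheaf.germ W p hW).hom, h1, map_zero])

variable {T : Scheme.{u}} [IsNoetherian T] (f : X ⟶ T) [IsProper f] [Flat f] [DCoh.HasRpush f]
  (hf : DCoh.RpushPreservesQCoh f) (a : DCoh.DQCoh T ⥤ DCoh.DQCoh X) (adj : DCoh.RpushQ f hf ⊣ a)
  (O : DCoh.DQCoh T) (hO : Nonempty (O.obj ≅ DCoh.inD T (Coh.structureModule T)))

include adj hO in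
/-- The relative dualizing object is an invertible module in degree `-n`. -/
theorem exists_invertible_single (hG : Dual3.IsGorensteinMor f) (n : ℕ)
    (hd : ∀ (y : T) (Z : Set ↥(f.fiber y)), Z ∈ irreducibleComponents ↥(f.fiber y) →
      topologicalKrullDim ↥Z = (n : WithBot ℕ∞)) :
    ∃ L : X.Modules, PicF.IsInvertible L ∧ Nonempty ((a.obj O).obj ≅ (DCoh.inD X L)⟦(n : ℤ)⟧) := by
  haveI : ∀ (U V : Scheme.{u}) (j : U ⟶ V) [IsOpenImmersion j],
      PreservesFiniteLimits (Scheme.Modules.restrictFunctor j) := fun U V j _ => inferInstance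
  haveI : Dual3.IsSepFT f := { isSeparated := inferInstance, quasiCompact := inferInstance, locallyOfFiniteType := inferInstance }
  haveI : Dual3.IsSepFT (𝟙 T) :=
    { isSeparated := inferInstance, quasiCompact := inferInstance, locallyOfFiniteType := inferInstance }
  let c : DEt.Compactification f := ⟨X, 𝟙 X, f, inferInstance, inferInstance, Category.id_comp f⟩
  haveI : DCoh.HasRpush c.fbar := ‹DCoh.HasRpush f›
  let K := (a.obj O).obj
  obtain ⟨eid⟩ := TildePCLib.nonempty_resD_id K
  have eid' : (Dual3.shriekC c a).obj O ≅ K := eid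
  obtain ⟨hz, -, -⟩ := Groth.Agent.S3614.result T X T f (𝟙 T) f (Category.comp_id f)
    (fun x => ⟨(hG x).1, haveI := (hG x).2; Groth.Agent.S0341.result _⟩) n hd c hf a adj O hO
  obtain ⟨hinv, -⟩ := Groth.Agent.S3616.result T X T f (𝟙 T) f (Category.comp_id f) c hf a adj O hO
  have hzK : ∀ i : ℤ, i ≠ -(n : ℤ) → IsZero (DCoh.HD K i) := fun i hi =>
    (hz i hi).of_iso ((DerivedCategory.homologyFunctor X.Modules i).mapIso eid').symm
  haveI : K.IsGE (-(n : ℤ)) := (DerivedCategory.isGE_iff _ _).2 fun i hi => hzK i (by omega)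
  haveI : K.IsLE (-(n : ℤ)) := (DerivedCategory.isLE_iff _ _).2 fun i hi => hzK i (by omega)
  obtain ⟨e⟩ := Groth.Agent.DerLib.Devissage.nonempty_iso_single K (-(n : ℤ))
  refine ⟨DCoh.HD K (-(n : ℤ)), MiscFlat6.isInvertible_of_restrict_openCover _ fun x => ?_, ⟨e ≪≫ ?_⟩⟩
  · obtain ⟨U, hxU, hU⟩ := (hinv x).1 (hG x)
    obtain ⟨V, m, hxV, ⟨c'⟩⟩ := hU ⟨x, hxU⟩
    let j : (V : Scheme.{u}) ⟶ X := V.ι ≫ U.ι
    let cj : (DCoh.restrictD j).obj K ≅ (DCoh.inD (V : Scheme.{u}) (Coh.structureModule (V : Scheme.{u})))⟦m⟧ :=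
      (DCoh.restrictD j).mapIso eid'.symm ≪≫ DualCxLib.restrictCompIso V.ι U.ι _ ≪≫ c'
    let r : ∀ i, (DCoh.HD K i).restrict j ≅
        DCoh.HD (DCoh.inD (V : Scheme.{u}) (Coh.structureModule (V : Scheme.{u}))) (m + i) := fun i =>
      (DCohRestrLib.restrictHDIso j K i).symm ≪≫
        (DerivedCategory.homologyFunctor _ i).mapIso cj ≪≫ hdShiftIso _ m i
    have hm : m + -(n : ℤ) = 0 := by
      by_contra hne
      have h1 : IsZero ((DCoh.HD K (-m)).restrict j) := by
        by_cases hmn : -m = -(n : ℤ)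
        · omega
        · exact (Scheme.Modules.restrictFunctor j).map_isZero (hzK _ hmn)
      have h2 : IsZero (Coh.structureModule (V : Scheme.{u})) :=
        (h1.of_iso ((r (-m)) ≪≫ eqToIso (by rw [add_neg_cancel]) ≪≫ hdInD _).symm)
      have h3 := (DCohRestrLib.isZero_iff_subsingleton_stalks _).1 h2 ⟨⟨x, hxU⟩, hxV⟩
      exact not_subsingleton_stalk (X := (V : Scheme.{u})) (⟨⟨x, hxU⟩, hxV⟩ : (V : Scheme.{u})) h3
    refine ⟨_, j, inferInstanceAs (IsOpenImmersion (_ ≫ _)), ⟨⟨⟨x, hxU⟩, hxV⟩, rfl⟩, fun y => ⟨⊤, trivial, ?_⟩⟩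
    exact (MiscFlat6.nonempty_restrict_structureModule (⊤ : (V : Scheme.{u}).Opens).ι).map fun e₀ =>
      (Scheme.Modules.restrictFunctor _).mapIso (r _ ≪≫ eqToIso (by rw [hm]) ≪≫ hdInD _) ≪≫ e₀
  · exact eqToIso (by simp) ≪≫
      (((DerivedCategory.singleFunctors X.Modules).shiftIso (n : ℤ) (-(n : ℤ)) 0 (add_neg_cancel _)).app _).symm

end GorDualExtLib
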